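import Groth.Agent.HirzLib.Series
import Groth.Agent.PlaneCurveLib.Coh
import Groth.Agent.MumfordLib.Main
import Groth.Agent.HodgePnLib.Dims
import Groth.Agent.CIDivLib.Rows
import Groth.Agent.CIDivLib.Ambient
import Groth.Agent.HdgLefLib.Rows

/-!
# Euler characteristics of forms on projective space and on hypersurfaces
-/

set_option autoImplicit false
set_option linter.style.haveILetI false
set_option linter.unusedSectionVars false
set_option maxHeartbeats 1000000
set_option backward.isDefEq.respectTransparency false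
set_option backward.isDefEq.respectTransparency.types false

universe u

open CategoryTheory CategoryTheory.Limits AlgebraicGeometry TopologicalSpace

noncomputable section

namespace HirzLib

/-- A bundle is coherent. -/
theorem isCoh_vb {X : Scheme.{u}} [IsLocallyNoetherian X] {M : X.Modules} (h : FlatMod.IsFinLocFree M) : Coh.IsCoh M :=
  Groth.Agent.PerfLib.isCoh_of_isFinLocFree h

variable {k : Type u} [Field k]

section Proj

variable (N : ℕ) (k)

local notation "P" => CohB1.ProjSpace N k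
local notation "O'" => Twist.twistProjSpace N k

theorem euler_midT (p : ℕ) (t : ℤ) :
    Curv2.euler k P (HodgePnLib.midT N k p t) = ((N + 1).choose (p + 1) : ℤ) * B N (t - (p + 1 : ℕ)) := by
  haveI : IsProper (P ↘ Spec (CommRingCat.of k)) := ProjDegLib.toSpec_isProper k N
  haveI := HodgePnLib.quasiSep N k
  obtain ⟨d, hd⟩ := CurvLib.exists_bound k (X := P)
  have hm : Coh.IsQCoh (HodgePnLib.midT N k p t) := (HodgePnLib.isCoh_midT N k p t).1
  rw [B, ← MumfordLib.euler_twist (n := N) k (t - (p + 1 : ℕ)),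
    CurvLib.euler_eq_sum (d := d) (fun i hi => hd _ hm i hi),
    CurvLib.euler_eq_sum (d := d) (fun i hi => hd _ (HodgePnLib.isCoh_twist N k _).1 i hi), Finset.mul_sum]
  exact Finset.sum_congr rfl fun i _ => by rw [HodgePnLib.finrank_midT]; push_cast; ring

/-- **The recursion of the Euler characteristics of twisted forms on projective space.** -/
theorem euler_omega_succ [QuasiSeparated (CohB1.ProjSpace.toSpec N k)] (p : ℕ) (t : ℤ)
    {A C : (CohB1.ProjSpace N k).Modules} (hA : HodgePnLib.IsOm N k (p + 1) A) (hC : HodgePnLib.IsOm N k p C) :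
    Curv2.euler k P (CohB1.tensorMod A (O' t)) + Curv2.euler k P (CohB1.tensorMod C (O' t)) =
      ((N + 1).choose (p + 1) : ℤ) * B N (t - (p + 1 : ℕ)) := by
  haveI : IsProper (P ↘ Spec (CommRingCat.of k)) := ProjDegLib.toSpec_isProper k N
  haveI : IsLocallyNoetherian P := PnCohLib.isLocallyNoetherian_projSpace (n := N) k
  obtain ⟨T, hT, ⟨e₁⟩, ⟨e₂⟩, ⟨e₃⟩⟩ := HodgePnLib.exists_seq_twist N k p t hA hC
  have hv : ∀ {q : ℕ} {L : (CohB1.ProjSpace N k).Modules}, HodgePnLib.IsOm N k q L →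
      FlatMod.IsFinLocFree (CohB1.tensorMod L (O' t)) := fun hL =>
    HdgLefLib.finLocFree_tensor (ExtPowLib.isFinLocFree (HodgePnLib.vb_omega N k) hL) (PicPnLib.twist_inv N k t)
  have h1 := isCoh_vb (Groth.Agent.PerfLib.isFinLocFree_of_iso e₁.symm (hv hA))
  have h3 := isCoh_vb (Groth.Agent.PerfLib.isFinLocFree_of_iso e₃.symm (hv hC))
  rw [← euler_midT k N, ← CurvLib.euler_congr e₁, ← CurvLib.euler_congr e₂, ← CurvLib.euler_congr e₃,
    CurvLib.euler_add_of_isCoh (k := k) hT h1 (Groth.Agent.KHeartLib.isCoh_of_shortExact hT h1 h3) h3]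

/-- The polynomial `Σ_p χ(Ω^p(t)) y^p` of projective space is a coefficient of the series. -/
theorem coeff_E_omega [QuasiSeparated (CohB1.ProjSpace.toSpec N k)] (t : ℤ)
    (W : ℕ → (CohB1.ProjSpace N k).Modules) (hW : ∀ p, HodgePnLib.IsOm N k p (W p)) (p : ℕ) :
    Curv2.euler k P (CohB1.tensorMod (W p) (O' t)) = (PowerSeries.coeff N (E t)).coeff p := by
  haveI : IsProper (P ↘ Spec (CommRingCat.of k)) := ProjDegLib.toSpec_isProper k N
  let h : ℕ → ℤ := fun p => Curv2.euler k P (CohB1.tensorMod (W p) (O' t))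
  have hbig : ∀ p, N < p → h p = 0 := fun p hp =>
    HilbPolyLib.euler_zero (k := k) (IsZero.of_iso
      ((CurvLib.tensorLeft' (O' t)).map_isZero (HodgePnLib.isZero_isOm N k hp (hW p))) (HilbPolyLib.swapIso _ _))
  have hzero : h 0 = B N t := by
    obtain ⟨e⟩ := HodgePnLib.isOm_zero_iso N k (hW 0)
    obtain ⟨e'⟩ := PicPnLib.twist_add N k 0 t
    simp only [h]
    rw [CurvLib.euler_congr (HilbPolyLib.congrLeft e _ ≪≫ e' ≪≫ eqToIso (congrArg O' (zero_add t))),
      MumfordLib.euler_twist]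
    rfl
  let H : Polynomial ℤ := ∑ p ∈ Finset.range (N + 1), Polynomial.C (h p) * Polynomial.X ^ p
  have hH : ∀ q, H.coeff q = h q := fun q => by
    simp only [H, Polynomial.finsetSum_coeff, Polynomial.coeff_C_mul_X_pow]
    rw [Finset.sum_ite_eq]
    split_ifs with hq
    · rfl
    · exact (hbig q (by simp only [Finset.mem_range] at hq; omega)).symm
  have key : (1 + Polynomial.X) * H = K N t := by
    ext q
    rw [add_mul, one_mul, Polynomial.coeff_add, coeff_K]
    rcases q with _ | q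
    · simp [hH, hzero]
    · rw [Polynomial.coeff_X_mul, hH, hH]
      exact (euler_omega_succ k N q t (hW (q + 1)) (hW q)).trans (by simp)
  rw [← eq_coeff_E key, hH]

end Proj

section Hyp

variable {n a : ℕ} (F : LefPen.Form (n + 1) k a)
  [SmoothOfRelativeDimension n ((LefPen.hypIdeal F).subschemeι ≫ CohB1.ProjSpace.toSpec (n + 1) k)]

local notation "P" => CohB1.ProjSpace (n + 1) k
local notation "O'" => Twist.twistProjSpace (n + 1) k
local notation "Z" => Scheme.IdealSheafData.subscheme (LefPen.hypIdeal F)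
local notation "ι'" => Scheme.IdealSheafData.subschemeι (LefPen.hypIdeal F)
local notation "ΩZ" => Omega.sheaf (Scheme.IdealSheafData.subschemeι (LefPen.hypIdeal F) ≫ CohB1.ProjSpace.toSpec (n + 1) k)

attribute [local instance] CIDivLib.subOver

include F in
theorem form_ne_zero : F ≠ 0 := by
  intro h
  subst h
  have hb : LefPen.hypIdeal (0 : LefPen.Form (n + 1) k a) = ⊥ := by
    refine Scheme.IdealSheafData.ext_of_iSup_eq_top
      (fun j : Fin (n + 2) => (⟨LefPen.chart (n + 1) k j, CIGen.chart_affine j⟩ : (P).affineOpens))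
      (QCohLib.iSup_stdOpen (n + 1) k) fun j => ?_
    rw [CIGen.hypIdeal_chart]
    simp [GradedCechLib.deh]
  have hdim := CIDivLib.dim_le_of_smooth (LefPen.hypIdeal (0 : LefPen.Form (n + 1) k a)) n
  rw [hb] at hdim
  haveI : IsIso (⊥ : (P).IdealSheafData).subschemeι := inferInstance
  have h1 := (((⊥ : (P).IdealSheafData).subschemeι).homeomorph).symm.isClosedEmbedding.isInducing.topologicalKrullDim_le
  rw [GenusZeroLib.dim_projSpace] at h1
  have h2 : ((n + 1 : ℕ) : WithBot ℕ∞) ≤ (n : WithBot ℕ∞) := h1.trans hdim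
  exact absurd (Nat.cast_le.1 h2) (by omega)

include F in
theorem vb_omega_hyp : FlatMod.IsFinLocFree ΩZ := by
  haveI : IsProper (CohB1.ProjSpace.toSpec (n + 1) k) := ProjDegLib.toSpec_isProper k (n + 1)
  haveI := SmoothOfRelativeDimension.smooth n ((LefPen.hypIdeal F).subschemeι ≫ CohB1.ProjSpace.toSpec (n + 1) k)
  exact HdgLefLib.vb_omega _ (CIDivLib.dim_le_of_smooth _ n)

/-- The restriction of a bundle to the hypersurface. -/
theorem euler_restrict {M : (CohB1.ProjSpace (n + 1) k).Modules} (hM : FlatMod.IsFinLocFree M) :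
    Curv2.euler k (LefPen.hypIdeal F).subscheme ((Scheme.Modules.pullback (LefPen.hypIdeal F).subschemeι).obj M) =
      Curv2.euler k P M - Curv2.euler k P (CohB1.tensorMod M (O' (-(a : ℤ)))) := by
  haveI : IsProper (P ↘ Spec (CommRingCat.of k)) := ProjDegLib.toSpec_isProper k (n + 1)
  haveI : IsLocallyNoetherian P := PnCohLib.isLocallyNoetherian_projSpace (n := n + 1) k
  haveI := CIDivLib.isProper_sub (LefPen.hypIdeal F)
  haveI := CIDivLib.isLN_sub (LefPen.hypIdeal F)
  obtain ⟨e⟩ := PlaneCurveLib.nonempty_idealMod_iso F (form_ne_zero F)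
  obtain ⟨T, hT, ⟨e₁⟩, ⟨e₂⟩, ⟨e₃⟩⟩ := HdgLefLib.exists_restrict_seq (LefPen.hypIdeal F) hM
  have hc := isCoh_vb (CohCmpLib.isFinLocFree_pb (LefPen.hypIdeal F).subschemeι hM)
  haveI := hc.1
  have hT1 : Coh.IsCoh T.X₁ := isCoh_vb (Groth.Agent.PerfLib.isFinLocFree_of_iso
    (e₁ ≪≫ HilbPolyLib.congrRight M e).symm (HdgLefLib.finLocFree_tensor hM (PicPnLib.twist_inv _ k _)))
  have hT2 : Coh.IsCoh T.X₂ := isCoh_vb (Groth.Agent.PerfLib.isFinLocFree_of_iso e₂.symm hM)
  have hT3 : Coh.IsCoh T.X₃ := QCohLib.isCoh_of_iso e₃.symm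
    (VBResLib.isCoh_push_of_isClosedImmersion (LefPen.hypIdeal F).subschemeι hc)
  have hpush : Curv2.euler k P T.X₃ = Curv2.euler k (LefPen.hypIdeal F).subscheme
      ((Scheme.Modules.pullback (LefPen.hypIdeal F).subschemeι).obj M) := by
    rw [CurvLib.euler_congr e₃]
    refine finsum_congr fun q => ?_
    obtain ⟨l⟩ := PushLinLib.nonempty_HH_push_linear (A := k) (p := (LefPen.hypIdeal F).subscheme ↘ Spec (CommRingCat.of k))
      (q := P ↘ Spec (CommRingCat.of k)) (LefPen.hypIdeal F).subschemeι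
      ((Scheme.Modules.pullback (LefPen.hypIdeal F).subschemeι).obj M) rfl q
    exact congrArg (fun d : ℕ => (-1 : ℤ) ^ q * (d : ℤ)) l.finrank_eq.symm
  rw [← hpush, ← CurvLib.euler_congr e₂, ← CurvLib.euler_congr (e₁ ≪≫ HilbPolyLib.congrRight M e),
    CurvLib.euler_add_of_isCoh (k := k) hT hT1 hT2 hT3]
  ring

/-- The Euler characteristic of twisted forms on the hypersurface. -/
def g (W : ℕ → (LefPen.hypIdeal F).subscheme.Modules) (t : ℤ) (p : ℕ) : ℤ :=
  Curv2.euler k (LefPen.hypIdeal F).subscheme (CohB1.tensorMod (W p) (CIDivLib.tw (LefPen.hypIdeal F) t))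

/-- **The recursion on the hypersurface.** -/
theorem g_rec (W : ℕ → (LefPen.hypIdeal F).subscheme.Modules) (hW : ∀ p, ExtPow.IsExtPow p ΩZ (W p)) (t : ℤ) :
    g F W t 0 = (PowerSeries.coeff (n + 1) (E t) - PowerSeries.coeff (n + 1) (E (t - a))).coeff 0 ∧
    ∀ p, g F W t (p + 1) + g F W (t - a) p =
      (PowerSeries.coeff (n + 1) (E t) - PowerSeries.coeff (n + 1) (E (t - a))).coeff (p + 1) := by
  haveI : IsProper (P ↘ Spec (CommRingCat.of k)) := ProjDegLib.toSpec_isProper k (n + 1)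
  haveI : QuasiSeparated (CohB1.ProjSpace.toSpec (n + 1) k) := HodgePnLib.quasiSep (n + 1) k
  haveI : IsLocallyNoetherian P := PnCohLib.isLocallyNoetherian_projSpace (n := n + 1) k
  haveI : Smooth (P ↘ Spec (CommRingCat.of k)) := GenusZeroLib.smooth_toSpec (n + 1) k
  haveI := CIDivLib.isProper_sub (LefPen.hypIdeal F)
  haveI := CIDivLib.isLN_sub (LefPen.hypIdeal F)
  haveI : Smooth ((LefPen.hypIdeal F).subschemeι ≫ (P ↘ Spec (CommRingCat.of k))) :=
    SmoothOfRelativeDimension.smooth n ((LefPen.hypIdeal F).subschemeι ≫ CohB1.ProjSpace.toSpec (n + 1) k)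
  choose V hVv hV using fun p => HodgePnLib.exists_isOm (n + 1) k p
  obtain ⟨eI⟩ := PlaneCurveLib.nonempty_idealMod_iso F (form_ne_zero F)
  have hI : PicF.IsInvertible (ClSub.idealMod (LefPen.hypIdeal F)) :=
    HilbPolyLib.isInvertible_of_iso eI.symm (PicPnLib.twist_inv _ k _)
  have hres : ∀ p, Curv2.euler k (LefPen.hypIdeal F).subscheme ((Scheme.Modules.pullback (LefPen.hypIdeal F).subschemeι).obj
      (CohB1.tensorMod (V p) (O' t))) =
      (PowerSeries.coeff (n + 1) (E t) - PowerSeries.coeff (n + 1) (E (t - a))).coeff p := fun p => by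
    obtain ⟨e⟩ := PicPnLib.twist_add (n + 1) k t (-(a : ℤ))
    rw [euler_restrict F (HdgLefLib.finLocFree_tensor (hVv p) (PicPnLib.twist_inv _ k _)), Polynomial.coeff_sub,
      CurvLib.euler_congr (HilbPolyLib.assocIso (V p) _ _ ≪≫ HilbPolyLib.congrRight (V p) e ≪≫
        eqToIso (congrArg (fun s => CohB1.tensorMod (V p) (O' s)) (sub_eq_add_neg t (a : ℤ)).symm)),
      coeff_E_omega k (n + 1) t V hV p, coeff_E_omega k (n + 1) (t - a) V hV p]
  refine ⟨?_, fun p => ?_⟩
  · obtain ⟨e0⟩ := ExtPowLib.nonempty_iso (hW 0) (HodgePnLib.isExtPow_zero _)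
    obtain ⟨e1⟩ := ExtPowLib.nonempty_iso (hV 0) (HodgePnLib.isExtPow_zero _)
    rw [← hres 0, g]
    exact CurvLib.euler_congr (HilbPolyLib.congrLeft e0 _ ≪≫ HilbPolyLib.unitLeft _ ≪≫
      (Scheme.Modules.pullback (LefPen.hypIdeal F).subschemeι).mapIso
        ((HilbPolyLib.congrLeft e1 _ ≪≫ HilbPolyLib.unitLeft _).symm))
  · obtain ⟨T, hT, ⟨t₁⟩, ⟨t₂⟩, ⟨t₃⟩⟩ := HdgLefLib.exists_twisted_seq (k := k) (X := P) (n := n + 1)
      (GenusZeroLib.dim_projSpace (n := n + 1) (k := k)).le hI p (hV (p + 1)) (hW p) (hW (p + 1))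
      (PicPnLib.twist_inv (n + 1) k t)
    obtain ⟨e⟩ := PicPnLib.twist_add (n + 1) k (-(a : ℤ)) t
    let u : T.X₁ ≅ CohB1.tensorMod (W p) (CIDivLib.tw (LefPen.hypIdeal F) (t - a)) := t₁ ≪≫
      HilbPolyLib.congrRight (W p) ((Scheme.Modules.pullback (LefPen.hypIdeal F).subschemeι).mapIso
        (HilbPolyLib.congrLeft eI _ ≪≫ e ≪≫ eqToIso (congrArg O' (show -(a : ℤ) + t = t - a by ring))))
    have hWv : ∀ q s, FlatMod.IsFinLocFree (CohB1.tensorMod (W q) (CIDivLib.tw (LefPen.hypIdeal F) s)) := fun q s =>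
      HdgLefLib.finLocFree_tensor (ExtPowLib.isFinLocFree (vb_omega_hyp F) (hW q)) (CIDivLib.isInvertible_tw _ s)
    have h1 := isCoh_vb (Groth.Agent.PerfLib.isFinLocFree_of_iso u.symm (hWv p _))
    have h3 := isCoh_vb (Groth.Agent.PerfLib.isFinLocFree_of_iso t₃.symm (hWv (p + 1) t))
    rw [← hres (p + 1), g, g, ← CurvLib.euler_congr t₂, ← CurvLib.euler_congr u,
      CurvLib.euler_add_of_isCoh (k := k) hT h1 (Groth.Agent.KHeartLib.isCoh_of_shortExact hT h1 h3) h3,
      CurvLib.euler_congr t₃]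
    exact add_comm _ _

/-- The polynomial of the hypersurface. -/
def Gpoly (W : ℕ → (LefPen.hypIdeal F).subscheme.Modules) (t : ℤ) : Polynomial ℤ :=
  ∑ p ∈ Finset.range (n + 1), Polynomial.C (g F W t p) * Polynomial.X ^ p

theorem Gpoly_rec (W : ℕ → (LefPen.hypIdeal F).subscheme.Modules) (hW : ∀ p, ExtPow.IsExtPow p ΩZ (W p)) (t : ℤ) :
    Gpoly F W t + Polynomial.X * Gpoly F W (t - a) =
      PowerSeries.coeff (n + 1) (E t) - PowerSeries.coeff (n + 1) (E (t - a)) := by
  haveI := CIDivLib.isProper_sub (LefPen.hypIdeal F)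
  haveI : Smooth ((LefPen.hypIdeal F).subscheme ↘ Spec (CommRingCat.of k)) :=
    SmoothOfRelativeDimension.smooth n ((LefPen.hypIdeal F).subschemeι ≫ CohB1.ProjSpace.toSpec (n + 1) k)
  have hc : ∀ s q, (Gpoly F W s).coeff q = g F W s q := fun s q => by
    simp only [Gpoly, Polynomial.finsetSum_coeff, Polynomial.coeff_C_mul_X_pow]
    rw [Finset.sum_ite_eq]
    split_ifs with hq
    · rfl
    · refine (HilbPolyLib.euler_zero (k := k) ?_).symm
      exact IsZero.of_iso ((CurvLib.tensorLeft' _).map_isZero (HdgLefLib.isZero_big (k := k)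
        (X := (LefPen.hypIdeal F).subscheme) (CIDivLib.dim_le_of_smooth _ n) q
        (by simp only [Finset.mem_range] at hq; omega) (hW q))) (HilbPolyLib.swapIso _ _)
  ext q
  rw [Polynomial.coeff_add]
  rcases q with _ | q
  · rw [Polynomial.coeff_X_mul_zero, add_zero, hc]
    exact (g_rec F W hW t).1
  · rw [Polynomial.coeff_X_mul, hc, hc]
    exact (g_rec F W hW t).2 q

end Hyp

end HirzLib

namespace HirzLib

section Main

variable {k : Type u} [Field k] {n a : ℕ} (F : LefPen.Form (n + 1) k a)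
  [SmoothOfRelativeDimension n ((LefPen.hypIdeal F).subschemeι ≫ CohB1.ProjSpace.toSpec (n + 1) k)]

attribute [local instance] CIDivLib.subOver

/-- The Hirzebruch polynomial is the untwisted value. -/
theorem Gpoly_zero (W : ℕ → (LefPen.hypIdeal F).subscheme.Modules) :
    Gpoly F W 0 = ∑ p ∈ Finset.range (n + 1),
      Polynomial.C (∑ q ∈ Finset.range (n + 1),
        (-1 : ℤ) ^ q * (Module.finrank k (Coh.HH (LefPen.hypIdeal F).subscheme (W p) q) : ℤ)) * Polynomial.X ^ p := by
  haveI := CIDivLib.isProper_sub (LefPen.hypIdeal F)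
  haveI := CurvLib.isNoetherian k (X := (LefPen.hypIdeal F).subscheme)
  have hdim := CIDivLib.dim_le_of_smooth (LefPen.hypIdeal F) n
  refine Finset.sum_congr rfl fun p _ => ?_
  obtain ⟨e⟩ := CIDivLib.nonempty_tw_zero (LefPen.hypIdeal F)
  rw [g, CurvLib.euler_congr (HilbPolyLib.congrRight (W p) e ≪≫ PicPnLib.unitRight _),
    CurvLib.euler_eq_sum (d := n + 1) fun q hq => CurvLib.subsingleton_HH_of_dim_le _ hdim q hq]

end Main

end HirzLib
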