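import Mathlib

/-!
# The generating series of Hirzebruch genera of hypersurfaces: algebra
-/

set_option autoImplicit false

set_option maxHeartbeats 1000000

noncomputable section

open PowerSeries

namespace HirzLib

local notation "A" => Polynomial ℤ
local notation "S" => PowerSeries (Polynomial ℤ)

/-- `1 - z`. -/
def uu : Sˣ := ((PowerSeries.isUnit_iff_constantCoeff (φ := (1 - PowerSeries.X : S))).2 (by simp)).unit

/-- `1 + y z`. -/
def vv : Sˣ :=
  ((PowerSeries.isUnit_iff_constantCoeff (φ := (1 + PowerSeries.C Polynomial.X * PowerSeries.X : S))).2 (by simp)).unit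

theorem val_uu : (uu : S) = 1 - PowerSeries.X := IsUnit.unit_spec _

theorem val_vv : (vv : S) = 1 + PowerSeries.C Polynomial.X * PowerSeries.X :=
  IsUnit.unit_spec _

/-- The series `(1 + y z)^(t-1) / (1 - z)^(t+1)`. -/
def E (t : ℤ) : S := ((vv ^ (t - 1) * uu ^ (-(t + 1)) : Sˣ) : S)

theorem E_rec (t : ℤ) : E t * (1 - PowerSeries.X) = E (t - 1) * (1 + PowerSeries.C Polynomial.X * PowerSeries.X) := by
  rw [← val_uu, ← val_vv, E, E, ← Units.val_mul, ← Units.val_mul]
  congr 1
  rw [show vv ^ (t - 1) = vv ^ (t - 1 - 1) * vv by rw [← zpow_add_one]; congr 1; ring,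
    show uu ^ (-(t - 1 + 1)) = uu ^ (-(t + 1)) * uu by rw [← zpow_add_one]; congr 1; ring]
  simp only [mul_comm, mul_assoc, mul_left_comm]

theorem E_shift (t : ℤ) (a : ℕ) : E (t - a) * (vv : S) ^ a = E t * (uu : S) ^ a := by
  rw [E, E, ← Units.val_pow_eq_pow_val, ← Units.val_pow_eq_pow_val, ← Units.val_mul, ← Units.val_mul]
  congr 1
  rw [← zpow_natCast vv a, ← zpow_natCast uu a,
    show vv ^ (t - 1) = vv ^ (t - a - 1) * vv ^ (a : ℤ) by rw [← zpow_add]; congr 1; ring,
    show uu ^ (-(t - a + 1)) = uu ^ (-(t + 1)) * uu ^ (a : ℤ) by rw [← zpow_add]; congr 1; ring]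
  simp only [mul_comm, mul_assoc, mul_left_comm]

theorem E_zero_mul : E 0 * (1 - PowerSeries.X) * (1 + PowerSeries.C Polynomial.X * PowerSeries.X) = 1 := by
  rw [← val_uu, ← val_vv, E, ← Units.val_mul, ← Units.val_mul]
  simp [mul_comm, mul_assoc]

theorem coeff_zero_E (t : ℤ) : coeff 0 (E t) = 1 := by
  have hu : Units.map (constantCoeff (R := A)).toMonoidHom uu = 1 := Units.ext (by simp [val_uu])
  have hv : Units.map (constantCoeff (R := A)).toMonoidHom vv = 1 := Units.ext (by simp [val_vv])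
  rw [coeff_zero_eq_constantCoeff_apply]
  show ((Units.map (constantCoeff (R := A)).toMonoidHom (vv ^ (t - 1) * uu ^ (-(t + 1))) : Aˣ) : A) = 1
  rw [map_mul, map_zpow, map_zpow, hu, hv, one_zpow, one_zpow, mul_one, Units.val_one]

theorem coeff_succ_E (t : ℤ) (N : ℕ) : coeff (N + 1) (E t) - coeff N (E t) =
    coeff (N + 1) (E (t - 1)) + Polynomial.X * coeff N (E (t - 1)) := by
  have h := congrArg (coeff (N + 1)) (E_rec t)
  rwa [mul_sub, mul_one, map_sub, coeff_succ_mul_X, mul_add, mul_one, map_add, ← mul_assoc, coeff_succ_mul_X,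
    mul_comm (E (t - 1)) (PowerSeries.C _), coeff_C_mul] at h

/-- The values `C(s + N, N)`. -/
def B (N : ℕ) (s : ℤ) : ℤ := Ring.choose (s + N) N

theorem B_sub (N : ℕ) (s : ℤ) : B (N + 1) s - B (N + 1) (s - 1) = B N s := by
  rw [B, B, B, show s + ((N + 1 : ℕ) : ℤ) = (s + N) + 1 by push_cast; ring,
    show s - 1 + ((N + 1 : ℕ) : ℤ) = s + N by push_cast; ring, Ring.choose_succ_succ]
  ring

/-- The sum `Σ_p C(N+1, p) C(t - p + N, N) y^p`. -/
def K (N : ℕ) (t : ℤ) : A :=
  ∑ p ∈ Finset.range (N + 2), Polynomial.C (((N + 1).choose p : ℤ) * B N (t - p)) * Polynomial.X ^ p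

theorem coeff_K (N : ℕ) (t : ℤ) (p : ℕ) : (K N t).coeff p = ((N + 1).choose p : ℤ) * B N (t - p) := by
  rw [K, Polynomial.finsetSum_coeff]
  simp only [Polynomial.coeff_C_mul_X_pow]
  rw [Finset.sum_ite_eq]
  split_ifs with h
  · rfl
  · rw [Nat.choose_eq_zero_of_lt (by simp only [Finset.mem_range] at h; omega)]
    simp

theorem K_succ (N : ℕ) (t : ℤ) : K (N + 1) t - K N t = K (N + 1) (t - 1) + Polynomial.X * K N (t - 1) := by
  ext p
  simp only [Polynomial.coeff_sub, Polynomial.coeff_add, coeff_K]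
  have h := B_sub N (t - p)
  rcases p with _ | p
  · simp only [Polynomial.coeff_X_mul_zero, add_zero]
    push_cast at h ⊢
    simp only [sub_zero, Nat.choose_zero_right, Nat.cast_one, one_mul] at h ⊢
    linarith
  · rw [Polynomial.coeff_X_mul, coeff_K, Nat.choose_succ_succ (N + 1) p]
    push_cast at h ⊢
    rw [show t - 1 - ((p : ℤ) + 1) = t - ((p : ℤ) + 1) - 1 by ring, show t - 1 - (p : ℤ) = t - ((p : ℤ) + 1) by ring]
    linear_combination ((N + 1).choose p + (N + 1).choose (p + 1) : ℤ) * h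

theorem K_zero (N : ℕ) : K N 0 = 1 - (-Polynomial.X) ^ (N + 1) := by
  ext p
  rw [coeff_K, Polynomial.coeff_sub, Polynomial.coeff_one,
    show (-Polynomial.X : A) ^ (N + 1) = Polynomial.C ((-1 : ℤ) ^ (N + 1)) * Polynomial.X ^ (N + 1) by
      rw [← neg_one_mul, mul_pow]; simp, Polynomial.coeff_C_mul_X_pow, B]
  rcases Nat.eq_zero_or_pos p with rfl | hp
  · simp [Ring.choose_natCast]
  rw [if_neg hp.ne']
  rcases lt_trichotomy p (N + 1) with h | rfl | h
  · rw [show (0 : ℤ) - p + N = ((N - p : ℕ) : ℤ) by push_cast [show p ≤ N by omega]; ring, Ring.choose_natCast,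
      Nat.choose_eq_zero_of_lt (show N - p < N by omega), if_neg h.ne]
    simp
  · rw [if_pos rfl, show (0 : ℤ) - ((N + 1 : ℕ) : ℤ) + N = -1 by push_cast; ring, Nat.choose_self]
    rw [Ring.choose_neg, Units.smul_def, Int.negOnePow_def]
    simp [pow_succ, Ring.choose_natCast, show (1 : ℤ) + N - 1 = N by ring]
  · rw [Nat.choose_eq_zero_of_lt h, if_neg h.ne']
    simp

theorem coeff_E_zero (N : ℕ) : (1 + Polynomial.X) * coeff N (E 0) = K N 0 := by
  have hv : ((vv⁻¹ : Sˣ) : S) = PowerSeries.mk fun i => (-Polynomial.X : A) ^ i := by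
    rw [Units.inv_eq_of_mul_eq_one_right]
    ext1 i
    rw [val_vv, add_mul, one_mul, map_add, mul_assoc, coeff_C_mul]
    rcases i with _ | i
    · simp
    · rw [coeff_succ_X_mul, coeff_mk, coeff_mk, coeff_one, if_neg (Nat.succ_ne_zero i)]
      ring
  have hu : ((uu⁻¹ : Sˣ) : S) = PowerSeries.mk fun _ => (1 : A) := by
    rw [Units.inv_eq_of_mul_eq_one_right]
    rw [val_uu, mul_comm]
    exact mk_one_mul_one_sub_eq_one A
  have h : PowerSeries.C (1 + Polynomial.X : A) * E 0 =
      PowerSeries.C Polynomial.X * ((vv⁻¹ : Sˣ) : S) + ((uu⁻¹ : Sˣ) : S) := by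
    refine (vv * uu).isUnit.mul_right_cancel ?_
    rw [mul_assoc, show E 0 * ((vv * uu : Sˣ) : S) = 1 by rw [E, ← Units.val_mul]; simp [mul_comm, mul_assoc],
      add_mul, mul_assoc, ← Units.val_mul, ← Units.val_mul, inv_mul_cancel_left, mul_comm vv uu, inv_mul_cancel_left,
      val_uu, val_vv, map_add, map_one]
    ring
  have h' := congrArg (coeff N) h
  rw [coeff_C_mul, map_add, coeff_C_mul, hv, hu, coeff_mk, coeff_mk] at h'
  rw [h', K_zero]
  ring

theorem coeff_E (N : ℕ) : ∀ t : ℤ, (1 + Polynomial.X) * coeff N (E t) = K N t := by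
  induction N with
  | zero =>
    intro t
    rw [coeff_zero_E, mul_one]
    ext p
    rw [coeff_K]
    rcases p with _ | _ | p <;> simp [B, Polynomial.coeff_one, Polynomial.coeff_X, Nat.choose_eq_zero_of_lt]
  | succ N ih =>
    have step : ∀ t, (1 + Polynomial.X) * coeff (N + 1) (E t) - K (N + 1) t =
        (1 + Polynomial.X) * coeff (N + 1) (E (t - 1)) - K (N + 1) (t - 1) := fun t => by
      linear_combination (1 + Polynomial.X : A) * coeff_succ_E t N - K_succ N t + ih t + Polynomial.X * ih (t - 1)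
    intro t
    refine sub_eq_zero.1 ?_
    induction t using Int.induction_on with
    | zero => rw [coeff_E_zero, sub_self]
    | succ i hi =>
      have := step ((i : ℤ) + 1)
      rw [add_sub_cancel_right] at this
      exact this.trans hi
    | pred i hi => exact (step _).symm.trans hi

/-- The coefficient of the series is determined by its product with `1 + y`. -/
theorem eq_coeff_E {N : ℕ} {t : ℤ} {H : A} (h : (1 + Polynomial.X) * H = K N t) : H = coeff N (E t) := by
  have h0 : (1 + Polynomial.X : A) ≠ 0 := fun e => by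
    simpa [Polynomial.coeff_one] using congrArg (fun q : A => q.coeff 1) e
  exact mul_left_cancel₀ h0 (h.trans (coeff_E N t).symm)

/-- **The generating series identity.** -/
theorem series_identity (a : ℕ) (G : ℕ → ℤ → A)
    (hG : ∀ (n : ℕ) (t : ℤ), G n t + Polynomial.X * G n (t - a) = coeff (n + 1) (E t) - coeff (n + 1) (E (t - a))) :
    (1 - PowerSeries.X) * (1 + PowerSeries.C Polynomial.X * PowerSeries.X) *
        ((1 + PowerSeries.C Polynomial.X * PowerSeries.X) ^ a + PowerSeries.C Polynomial.X * (1 - PowerSeries.X) ^ a) *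
        (PowerSeries.X * PowerSeries.mk fun n => G n 0) =
      (1 + PowerSeries.C Polynomial.X * PowerSeries.X : S) ^ a - (1 - PowerSeries.X) ^ a := by
  simp only [← val_vv, ← val_uu]
  set w := (vv : S) ^ a
  set z := (uu : S) ^ a
  set c : S := PowerSeries.C (Polynomial.X : A)
  let Gs : ℤ → S := fun t => PowerSeries.X * PowerSeries.mk fun n => G n t
  have hGs : ∀ t, Gs t + c * Gs (t - a) = E t - E (t - a) := fun t => by
    ext1 i
    rw [map_add, coeff_C_mul, map_sub]
    rcases i with _ | i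
    · simp [Gs, coeff_zero_E]
    · simp only [Gs, coeff_succ_X_mul, coeff_mk]
      exact hG i t
  let T : ℤ → S := fun t => (w + c * z) * Gs t - (E t - E (t - a)) * w
  have hT : ∀ t, T t = -c * T (t - a) := fun t => by
    have h1 := E_shift t a
    have h2 := E_shift (t - a) a
    simp only [T]
    linear_combination (w + c * z) * hGs t + c * h2 - c * h1
  have hdiv : ∀ (j : ℕ) (t : ℤ), c ^ j ∣ T t := by
    intro j
    induction j with
    | zero => exact fun t => by simp
    | succ j ih =>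
      intro t
      obtain ⟨q, hq⟩ := ih (t - a)
      exact ⟨-q, by rw [hT t, hq]; ring⟩
  have h0 : T 0 = 0 := by
    ext1 i
    rw [map_zero]
    ext p
    obtain ⟨q, hq⟩ := hdiv (p + 1) 0
    rw [hq, ← map_pow, coeff_C_mul, Polynomial.coeff_zero, Polynomial.coeff_X_pow_mul' ]
    simp
  have h1 : E (0 - a) * w = E 0 * z := E_shift 0 a
  have h2 : E 0 * (uu : S) * (vv : S) = 1 := E_zero_mul
  simp only [T, Gs] at h0
  linear_combination ((uu : S) * (vv : S)) * h0 - ((uu : S) * (vv : S)) * h1 + (w - z) * h2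

end HirzLib
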